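import Groth.Agent.Lib.FEt21.Degree
import Mathlib.RingTheory.Norm.Basic

/-!
# The norm of functions along a finite locally free morphism of arbitrary schemes
-/

set_option autoImplicit false
set_option linter.all false
set_option backward.isDefEq.respectTransparency false

universe u

open CategoryTheory CategoryTheory.Limits AlgebraicGeometry TopologicalSpace Opposite TensorProduct

noncomputable section

namespace GrothLib.NormMap13

theorem norm_of_isPushout {R S R' S' : CommRingCat.{u}} {a : R ⟶ S} {b : R ⟶ R'} {c : S ⟶ S'} {d : R' ⟶ S'}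
    (H : IsPushout a b c d)
    (hfree : letI := a.hom.toAlgebra; Module.Free R S) (hfin : letI := a.hom.toAlgebra; Module.Finite R S) (x : S) :
    (letI := d.hom.toAlgebra; Module.Free R' S') ∧
    (letI := d.hom.toAlgebra; Algebra.norm R' (c x)) = b (letI := a.hom.toAlgebra; Algebra.norm R x) := by
  classical
  letI := a.hom.toAlgebra
  letI := d.hom.toAlgebra
  letI := b.hom.toAlgebra
  letI := c.hom.toAlgebra
  letI : Algebra R S' := (c.hom.comp a.hom).toAlgebra
  haveI : IsScalarTower R S S' := IsScalarTower.of_algebraMap_eq fun _ => rfl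
  haveI : IsScalarTower R R' S' := IsScalarTower.of_algebraMap_eq fun r => by
    show c (a r) = d (b r)
    rw [← CommRingCat.comp_apply, H.w, CommRingCat.comp_apply]
  haveI hpo : Algebra.IsPushout R R' S S' :=
    CommRingCat.isPushout_iff_isPushout.mp H.flip
  let β := Module.Free.chooseBasis R S
  let β' := hpo.out.basis β
  refine ⟨Module.Free.of_basis β', ?_⟩
  show Algebra.norm R' (c x) = b (Algebra.norm R x)
  rw [Algebra.norm_eq_matrix_det β', Algebra.norm_eq_matrix_det β]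
  show _ = b.hom _
  rw [RingHom.map_det]
  congr 1
  ext i j
  simp only [RingHom.mapMatrix_apply, Matrix.map_apply, Algebra.leftMulMatrix_eq_repr_mul]
  have hb : ∀ l, β' l = c (β l) := fun l => by
    simp only [β', IsBaseChange.basis_apply]
    rfl
  rw [hb, ← map_mul]
  conv_lhs => rw [← β.sum_repr (x * β j), map_sum]
  have : ∀ l, c (β.repr (x * β j) l • β l) = b (β.repr (x * β j) l) • β' l := fun l => by
    rw [hb, Algebra.smul_def, Algebra.smul_def, map_mul]
    congr 1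
    show c (a _) = d (b _)
    rw [← CommRingCat.comp_apply, H.w, CommRingCat.comp_apply]
  rw [Finset.sum_congr rfl fun l _ => this l, Module.Basis.repr_sum_self]

variable {T T' : Scheme.{u}} (g : T' ⟶ T)

/-- The norm over an open of the target. -/
def normAt (W : T.Opens) (a : Γ(T', g ⁻¹ᵁ W)) : Γ(T, W) :=
  letI := (g.app W).hom.toAlgebra
  Algebra.norm Γ(T, W) a

theorem normAt_mul (W : T.Opens) (a b : Γ(T', g ⁻¹ᵁ W)) :
    normAt g W (a * b) = normAt g W a * normAt g W b := by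
  simp only [normAt, map_mul]

theorem normAt_one (W : T.Opens) : normAt g W 1 = 1 := by
  simp only [normAt, map_one]

/-- The sections over the preimage are a free module. -/
def IsFreeOver (W : T.Opens) : Prop :=
  letI := (g.app W).hom.toAlgebra
  Module.Free Γ(T, W) Γ(T', g ⁻¹ᵁ W)

theorem isFreeOver_iff_appTop :
    IsFreeOver g ⊤ ↔ (letI := g.appTop.hom.toAlgebra; Module.Free Γ(T, ⊤) Γ(T', ⊤)) := Iff.rfl

section
variable {g} {U U' : Scheme.{u}} {j : U ⟶ T} {j' : U' ⟶ T'} {g' : U' ⟶ U}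

theorem normAt_baseChange [IsFinite g] (H : IsPullback j' g' g j) {W : T.Opens} {V : U.Opens}
    (hW : IsAffineOpen W) (hV : IsAffineOpen V) (e : V ≤ j ⁻¹ᵁ W) (hf : IsFreeOver g W) :
    ∃ e' : g' ⁻¹ᵁ V ≤ j' ⁻¹ᵁ (g ⁻¹ᵁ W), IsFreeOver g' V ∧
      ∀ a : Γ(T', g ⁻¹ᵁ W), normAt g' V (j'.appLE (g ⁻¹ᵁ W) (g' ⁻¹ᵁ V) e' a) = j.appLE W V e (normAt g W a) := by
  have e' : g' ⁻¹ᵁ V ≤ j' ⁻¹ᵁ (g ⁻¹ᵁ W) := by
    intro z hz
    show g (j' z) ∈ W
    rw [← Scheme.Hom.comp_apply, H.w, Scheme.Hom.comp_apply]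
    exact e hz
  have hU : g' ⁻¹ᵁ V = j' ⁻¹ᵁ (g ⁻¹ᵁ W) ⊓ g' ⁻¹ᵁ V := (inf_eq_right.2 e').symm
  haveI := isIso_pushoutSection_of_isAffineOpen H e (le_refl (g ⁻¹ᵁ W)) hU hW hV (hW.preimage g)
  have hpo : IsPushout (g.app W) (j.appLE W V e) (j'.appLE (g ⁻¹ᵁ W) (g' ⁻¹ᵁ V) e') (g'.app V) := by
    have := (isIso_pushoutSection_iff H e (le_refl (g ⁻¹ᵁ W)) hU).1 inferInstance
    rw [Scheme.Hom.app_eq_appLE, Scheme.Hom.app_eq_appLE]
    first | exact this | exact this.flip
  have hfin : letI := (g.app W).hom.toAlgebra; Module.Finite Γ(T, W) Γ(T', g ⁻¹ᵁ W) := g.finite_app W hW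
  exact ⟨e', (norm_of_isPushout hpo hf hfin 1).1, fun a => (norm_of_isPushout hpo hf hfin a).2⟩

end

theorem normAt_res [IsFinite g] {W V : T.Opens} (hW : IsAffineOpen W) (hV : IsAffineOpen V) (h : V ≤ W)
    (hf : IsFreeOver g W) (a : Γ(T', ⊤)) :
    IsFreeOver g V ∧ normAt g V (T'.presheaf.map (homOfLE le_top).op a) =
      T.presheaf.map (homOfLE h).op (normAt g W (T'.presheaf.map (homOfLE le_top).op a)) := by
  obtain ⟨e', h1, h2⟩ := normAt_baseChange (IsPullback.of_horiz_isIso (fst := 𝟙 T') (snd := g) (f := g) (g := 𝟙 T) ⟨by simp⟩)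
    hW hV (show V ≤ (𝟙 T : T ⟶ T) ⁻¹ᵁ W from h) hf
  refine ⟨h1, ?_⟩
  have := h2 (T'.presheaf.map (homOfLE le_top).op a)
  simp only [Scheme.Hom.appLE, Scheme.Hom.id_app, Category.id_comp, ← CommRingCat.comp_apply, ← Functor.map_comp] at this
  exact this

/-- `s` is the norm of `a`. -/
def IsNorm (a : Γ(T', ⊤)) (s : Γ(T, ⊤)) : Prop :=
  ∀ W : T.Opens, IsAffineOpen W → IsFreeOver g W →
    T.presheaf.map (homOfLE le_top).op s = normAt g W (T'.presheaf.map (homOfLE le_top).op a)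

variable [IsFinite g] [Flat g] [LocallyOfFinitePresentation g]

theorem eq_of_locally {W : T.Opens} (u v : Γ(T, W))
    (h : ∀ x ∈ W, ∃ (V : T.Opens) (hV : V ≤ W), x ∈ V ∧ T.presheaf.map (homOfLE hV).op u = T.presheaf.map (homOfLE hV).op v) :
    u = v := by
  refine T.IsSheaf.section_ext fun x hx => ?_
  obtain ⟨V, hV, hxV, e⟩ := h x hx
  exact ⟨V, hV, hxV, e⟩

theorem IsNorm.eq {g} [IsFinite g] [Flat g] [LocallyOfFinitePresentation g] {a : Γ(T', ⊤)} {s s' : Γ(T, ⊤)}
    (h : IsNorm g a s) (h' : IsNorm g a s') : s = s' := by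
  refine eq_of_locally s s' fun x _ => ?_
  obtain ⟨W, hW, hxW, hf⟩ := GrothLib.FEt21.exists_free_affine g x
  exact ⟨W, le_top, hxW, (h W hW hf).trans (h' W hW hf).symm⟩

theorem exists_isNorm (a : Γ(T', ⊤)) : ∃ s, IsNorm g a s := by
  let ι := {W : T.Opens // IsAffineOpen W ∧ IsFreeOver g W}
  let sec : ∀ i : ι, Γ(T, i.1) := fun i => normAt g i.1 (T'.presheaf.map (homOfLE le_top).op a)
  have hcompat : TopCat.Presheaf.IsCompatible T.presheaf (fun i : ι => i.1) sec := by
    intro i i'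
    refine T.IsSheaf.section_ext fun x hx => ?_
    obtain ⟨V, hV, hxV, hVle⟩ := exists_isAffineOpen_mem_and_subset (U := i.1 ⊓ i'.1) hx
    refine ⟨V, hVle, hxV, ?_⟩
    rw [← CommRingCat.comp_apply, ← CommRingCat.comp_apply, ← Functor.map_comp, ← Functor.map_comp]
    exact ((normAt_res g i.2.1 hV (fun z hz => (hVle hz).1) i.2.2 a).2.symm).trans
      (normAt_res g i'.2.1 hV (fun z hz => (hVle hz).2) i'.2.2 a).2
  have hcover : (⊤ : T.Opens) ≤ iSup (fun i : ι => i.1) := by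
    intro x _
    obtain ⟨W, hW, hxW, hf⟩ := GrothLib.FEt21.exists_free_affine g x
    exact Opens.mem_iSup.2 ⟨⟨W, hW, hf⟩, hxW⟩
  obtain ⟨s, hs, -⟩ := TopCat.Sheaf.existsUnique_gluing' (F := T.sheaf) (U := fun i : ι => i.1) (V := (⊤ : T.Opens))
    (iUV := fun i => homOfLE le_top) hcover sec hcompat
  exact ⟨s, fun W hW hf => hs ⟨W, hW, hf⟩⟩

/-- The norm of a global function. -/
def norm (a : Γ(T', ⊤)) : Γ(T, ⊤) := (exists_isNorm g a).choose

theorem isNorm_norm (a : Γ(T', ⊤)) : IsNorm g a (norm g a) := (exists_isNorm g a).choose_spec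

theorem norm_mul (a b : Γ(T', ⊤)) : norm g (a * b) = norm g a * norm g b := by
  refine (isNorm_norm g _).eq fun W hW hf => ?_
  rw [map_mul, isNorm_norm g a W hW hf, isNorm_norm g b W hW hf, map_mul, normAt_mul]

theorem norm_one : norm g (1 : Γ(T', ⊤)) = 1 := by
  refine (isNorm_norm g _).eq fun W hW hf => ?_
  rw [map_one, map_one, normAt_one]

/-- The norm as a monoid homomorphism. -/
def normHom : Γ(T', ⊤) →* Γ(T, ⊤) where
  toFun := norm g
  map_one' := norm_one g
  map_mul' := norm_mul g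

theorem norm_eq_of_free [IsAffine T] (hf : IsFreeOver g ⊤) (a : Γ(T', ⊤)) : norm g a = normAt g ⊤ a := by
  have := isNorm_norm g a ⊤ (isAffineOpen_top T) hf
  simpa using this

theorem norm_baseChange {U U' : Scheme.{u}} {j : U ⟶ T} {j' : U' ⟶ T'} (g' : U' ⟶ U) [IsFinite g'] [Flat g']
    [LocallyOfFinitePresentation g'] (H : IsPullback j' g' g j) (a : Γ(T', ⊤)) :
    norm g' (j'.appTop a) = j.appTop (norm g a) := by
  refine eq_of_locally (T := U) _ _ fun x _ => ?_
  obtain ⟨W, hW, hxW, hf⟩ := GrothLib.FEt21.exists_free_affine g (j x)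
  obtain ⟨V, hV, hxV, hVW⟩ := exists_isAffineOpen_mem_and_subset (U := j ⁻¹ᵁ W) hxW
  obtain ⟨e', hfV, hN⟩ := normAt_baseChange H hW hV hVW hf
  refine ⟨V, le_top, hxV, ?_⟩
  rw [isNorm_norm g' _ V hV hfV]
  have h1 : U'.presheaf.map (homOfLE le_top).op (j'.appTop a) =
      j'.appLE (g ⁻¹ᵁ W) (g' ⁻¹ᵁ V) e' (T'.presheaf.map (homOfLE le_top).op a) := by
    rw [← CommRingCat.comp_apply, ← CommRingCat.comp_apply, Scheme.Hom.map_appLE]
    rfl
  have h2 : U.presheaf.map (homOfLE le_top).op (j.appTop (norm g a)) =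
      j.appLE W V hVW (T.presheaf.map (homOfLE le_top).op (norm g a)) := by
    rw [← CommRingCat.comp_apply, ← CommRingCat.comp_apply, Scheme.Hom.map_appLE]
    rfl
  rw [h1, h2, isNorm_norm g a W hW hf]
  exact hN _

end GrothLib.NormMap13
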