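import Groth.Agent.Lib.NormMap13.Basic
import Groth.Prelude.Def_CGrpSh3
import Groth.Prelude.Def_GmPts

/-!
# The norm map of a finite locally free morphism
-/

set_option autoImplicit false
set_option linter.all false
set_option backward.isDefEq.respectTransparency false

universe u

open CategoryTheory CategoryTheory.Limits MonoidalCategory CartesianMonoidalCategory MonObj AlgebraicGeometry Opposite

noncomputable section

namespace GrothLib.NormMap13

variable {X X' : Scheme.{u}} (f : X' ⟶ X)

theorem isPullback_map {T T₁ : Over X} (j : T₁ ⟶ T) :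
    IsPullback ((Over.pullback f).map j).left (pullback.fst T₁.hom f) (pullback.fst T.hom f) j.left := by
  have e1 : ((Over.pullback f).map j).left ≫ pullback.fst T.hom f = pullback.fst T₁.hom f ≫ j.left :=
    pullback.lift_fst _ _ _
  have e2 : ((Over.pullback f).map j).left ≫ pullback.snd T.hom f = pullback.snd T₁.hom f :=
    pullback.lift_snd _ _ _
  refine IsPullback.of_right ?_ e1 (IsPullback.of_hasPullback T.hom f).flip
  rw [e2, Over.w]
  exact (IsPullback.of_hasPullback T₁.hom f).flip

variable [IsFinite f] [Flat f] [LocallyOfFinitePresentation f]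

/-- The norm of a point of `G_m`. -/
def normPoint (T : Over X) (t : (Over.pullback f).obj T ⟶ Red.Gm X') : T ⟶ Red.Gm X :=
  GmPts.ptOfUnit (Units.map (normHom (pullback.fst T.hom f)) (GmPts.unitOfPt t))

theorem gmFn_normPoint (T : Over X) (t : (Over.pullback f).obj T ⟶ Red.Gm X') :
    Red.gmFn (normPoint f T t) = norm (pullback.fst T.hom f) (Red.gmFn t) :=
  GmPts.gmFn_ptOfUnit _

theorem normPoint_comp {T T₁ : Over X} (j : T₁ ⟶ T) (t : (Over.pullback f).obj T ⟶ Red.Gm X') :
    normPoint f T₁ ((Over.pullback f).map j ≫ t) = j ≫ normPoint f T t := by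
  apply GmPts.gmFn_injective
  show Red.gmFn _ = Red.gmFn _
  rw [GmPts.gmFn_comp, gmFn_normPoint, gmFn_normPoint, GmPts.gmFn_comp]
  exact norm_baseChange _ _ (isPullback_map f j) _

theorem normPoint_one (T : Over X) : normPoint f T 1 = 1 := by
  apply GmPts.gmFn_injective
  show Red.gmFn _ = Red.gmFn _
  rw [gmFn_normPoint, GmPts.gmFn_one, GmPts.gmFn_one]
  exact norm_one _

theorem normPoint_mul (T : Over X) (t t' : (Over.pullback f).obj T ⟶ Red.Gm X') :
    normPoint f T (t * t') = normPoint f T t * normPoint f T t' := by
  apply GmPts.gmFn_injective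
  show Red.gmFn _ = Red.gmFn _
  rw [gmFn_normPoint, GmPts.gmFn_mul, GmPts.gmFn_mul, gmFn_normPoint, gmFn_normPoint]
  exact norm_mul _ _ _

/-- The norm map of sheaves. -/
def normMap : CGrpSh3.pushGm Scheme.fppfPrecoverage f ⟶ CGrpSh2.Gm Scheme.fppfPrecoverage X :=
  ⟨{ app := fun T => AddCommGrpCat.ofHom
      { toFun := fun x => ULift.up (Additive.ofMul (normPoint f (unop T) x.down.toMul))
        map_zero' := by
          apply ULift.ext
          change Additive.ofMul (normPoint f (unop T) 1) = 0
          rw [normPoint_one]
          rfl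
        map_add' := fun x y => by
          apply ULift.ext
          change Additive.ofMul (normPoint f (unop T) (x.down.toMul * y.down.toMul)) = _
          rw [normPoint_mul]
          rfl }
     naturality := fun T T₁ j => by
      refine AddCommGrpCat.ext fun x => ?_
      apply ULift.ext
      exact congrArg Additive.ofMul (normPoint_comp f j.unop x.down.toMul) }⟩

theorem isNormMap_normMap : CGrpSh3.IsNormMap Scheme.fppfPrecoverage f (normMap f) := by
  intro T _ alg _ hfree halg t'
  show Red.gmFn (normPoint f T t') = _
  rw [gmFn_normPoint]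
  have ha : alg = (pullback.fst T.hom f).appTop.hom.toAlgebra := Algebra.algebra_ext _ _ halg
  subst ha
  have hf : IsFreeOver (pullback.fst T.hom f) ⊤ := hfree
  exact norm_eq_of_free _ hf _

end GrothLib.NormMap13
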